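import Groth.Agent.EtShLib.PushStalk
import Groth.Agent.EtShLib.Stalk
import Groth.Agent.EtShLib.Strata
import Groth.Prelude.Def_W4c1etweilhu916Glue

/-! Recollement of abelian étale sheaves from a closed subscheme and its open complement. -/

set_option autoImplicit false
set_option linter.style.haveILetI false
set_option backward.isDefEq.respectTransparency false
set_option backward.isDefEq.respectTransparency.types false
set_option maxHeartbeats 1000000
universe u

open CategoryTheory CategoryTheory.Limits AlgebraicGeometry Opposite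

namespace Groth.Agent.RecollEqLib

open Groth.Agent.EtShLib

variable {X Z U : Scheme.{u}} (i : Z ⟶ X) [IsClosedImmersion i] (j : U ⟶ X) [IsOpenImmersion j]
  (hZU : Set.range j.base = (Set.range i.base)ᶜ)

include hZU in
theorem isIso_of_pulls {F G : EtCoh.Ab X} (φ : F ⟶ G) [IsIso ((EtCoh.pull i).map φ)]
    [IsIso ((EtCoh.pull j).map φ)] : IsIso φ := by
  refine isIso_of_stalks (A := AddCommGrpCat.{u + 1}) φ fun Ω _ _ ξ => ?_
  by_cases h : ξ.base default ∈ Set.range i.base
  · obtain ⟨ζ, rfl⟩ := exists_factor i ξ h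
    exact (NatIso.isIso_map_iff (stalkPull i ζ AddCommGrpCat.{u + 1}) φ).2
      (inferInstanceAs (IsIso ((stk ζ).map ((EtCoh.pull i).map φ))))
  · obtain ⟨ζ, rfl⟩ := exists_factor j ξ (hZU ▸ h)
    exact (NatIso.isIso_map_iff (stalkPull j ζ AddCommGrpCat.{u + 1}) φ).2
      (inferInstanceAs (IsIso ((stk ζ).map ((EtCoh.pull j).map φ))))

include hZU in
theorem isIso_pull_push_map {G G' : EtCoh.Ab Z} (φ : G ⟶ G') :
    IsIso ((EtCoh.pull j).map ((EtCoh.push i).map φ)) := by
  refine isIso_of_stalks (A := AddCommGrpCat.{u + 1}) _ fun Ω _ _ ζ => ?_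
  refine (NatIso.isIso_map_iff (stalkPull j ζ AddCommGrpCat.{u + 1}) ((EtCoh.push i).map φ)).1 ?_
  have hξ : (ζ ≫ j).base default ∉ Set.range i.base := by
    have h : (ζ ≫ j).base default ∈ Set.range j.base := ⟨ζ.base default, rfl⟩
    rwa [hZU] at h
  haveI := subsingleton_push_stalk i G (ζ ≫ j) hξ
  haveI := subsingleton_push_stalk i G' (ζ ≫ j) hξ
  exact (ConcreteCategory.isIso_iff_bijective _).2
    ⟨fun a b _ => Subsingleton.elim a b, fun b => ⟨0, Subsingleton.elim _ _⟩⟩

theorem isIso_pull_unit (F : EtCoh.Ab X) : IsIso ((EtCoh.pull i).map ((EtCoh.pullPushAdj i).unit.app F)) := by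
  haveI := counit_isIso_of_closedImmersion i ((EtCoh.pull i).obj F)
  have h : IsIso ((EtCoh.pull i).map ((EtCoh.pullPushAdj i).unit.app F) ≫
      (EtCoh.pullPushAdj i).counit.app ((EtCoh.pull i).obj F)) := by
    erw [(EtCoh.pullPushAdj i).left_triangle_components F]
    exact IsIso.id _
  exact IsIso.of_isIso_comp_right _ ((EtCoh.pullPushAdj i).counit.app ((EtCoh.pull i).obj F))

theorem isIso_pull_unit_open (F : EtCoh.Ab X) : IsIso ((EtCoh.pull j).map ((EtCoh.pullPushAdj j).unit.app F)) := by
  haveI := counit_isIso_of_openImmersion j ((EtCoh.pull j).obj F)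
  have h : IsIso ((EtCoh.pull j).map ((EtCoh.pullPushAdj j).unit.app F) ≫
      (EtCoh.pullPushAdj j).counit.app ((EtCoh.pull j).obj F)) := by
    erw [(EtCoh.pullPushAdj j).left_triangle_components F]
    exact IsIso.id _
  exact IsIso.of_isIso_comp_right _ ((EtCoh.pullPushAdj j).counit.app ((EtCoh.pull j).obj F))

variable {G : EtCoh.Ab Z} {H : EtCoh.Ab U} (φ : G ⟶ (EtCoh.pull i).obj ((EtCoh.push j).obj H))

/-- The glued sheaf. -/
noncomputable abbrev glue : EtCoh.Ab X :=
  pullback ((EtCoh.push i).map φ) ((EtCoh.pullPushAdj i).unit.app ((EtCoh.push j).obj H))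

theorem isIso_pull_fst : IsIso ((EtCoh.pull i).map
    (pullback.fst ((EtCoh.push i).map φ) ((EtCoh.pullPushAdj i).unit.app ((EtCoh.push j).obj H)))) := by
  haveI : PreservesFiniteLimits (EtCoh.pull i) := preservesFiniteLimits_pullA (A := AddCommGrpCat.{u + 1}) i
  haveI := isIso_pull_unit i ((EtCoh.push j).obj H)
  exact ((IsPullback.of_hasPullback _ _).map (EtCoh.pull i)).isIso_fst_of_isIso

include hZU in
theorem isIso_pull_snd : IsIso ((EtCoh.pull j).map
    (pullback.snd ((EtCoh.push i).map φ) ((EtCoh.pullPushAdj i).unit.app ((EtCoh.push j).obj H)))) := by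
  haveI : PreservesFiniteLimits (EtCoh.pull j) := preservesFiniteLimits_pullA (A := AddCommGrpCat.{u + 1}) j
  haveI := isIso_pull_push_map i j hZU φ
  exact ((IsPullback.of_hasPullback _ _).map (EtCoh.pull j)).isIso_snd_of_isIso

/-- The comparison of a sheaf with the glued one. -/
noncomputable def can (F : EtCoh.Ab X) :
    F ⟶ glue i j ((EtCoh.pull i).map ((EtCoh.pullPushAdj j).unit.app F)) :=
  pullback.lift ((EtCoh.pullPushAdj i).unit.app F) ((EtCoh.pullPushAdj j).unit.app F)
    ((EtCoh.pullPushAdj i).unit.naturality ((EtCoh.pullPushAdj j).unit.app F)).symm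

include hZU in
theorem isIso_can (F : EtCoh.Ab X) : IsIso (can i j F) := by
  haveI : IsIso ((EtCoh.pull i).map (can i j F)) := by
    haveI := isIso_pull_fst i j ((EtCoh.pull i).map ((EtCoh.pullPushAdj j).unit.app F))
    have h := isIso_pull_unit i F
    rw [show (EtCoh.pullPushAdj i).unit.app F = can i j F ≫ pullback.fst _ _ from (pullback.lift_fst _ _ _).symm,
      Functor.map_comp] at h
    exact IsIso.of_isIso_comp_right _ ((EtCoh.pull i).map (pullback.fst
      ((EtCoh.push i).map ((EtCoh.pull i).map ((EtCoh.pullPushAdj j).unit.app F)))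
      ((EtCoh.pullPushAdj i).unit.app ((EtCoh.push j).obj ((EtCoh.pull j).obj F)))))
  haveI : IsIso ((EtCoh.pull j).map (can i j F)) := by
    haveI := isIso_pull_snd i j hZU ((EtCoh.pull i).map ((EtCoh.pullPushAdj j).unit.app F))
    have h := isIso_pull_unit_open j F
    rw [show (EtCoh.pullPushAdj j).unit.app F = can i j F ≫ pullback.snd _ _ from (pullback.lift_snd _ _ _).symm,
      Functor.map_comp] at h
    exact IsIso.of_isIso_comp_right _ ((EtCoh.pull j).map (pullback.snd
      ((EtCoh.push i).map ((EtCoh.pull i).map ((EtCoh.pullPushAdj j).unit.app F)))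
      ((EtCoh.pullPushAdj i).unit.app ((EtCoh.push j).obj ((EtCoh.pull j).obj F)))))
  exact isIso_of_pulls i j hZU (can i j F)

include hZU in
theorem faithful : (EtCore.recollTriple i j).Faithful where
  map_injective {F F'} a b h := by
    haveI := isIso_can i j hZU F'
    rw [← cancel_mono (can i j F')]
    refine pullback.hom_ext ?_ ?_
    · simp only [Category.assoc, can, pullback.lift_fst]
      refine ((EtCoh.pullPushAdj i).unit.naturality a).trans ?_
      refine Eq.trans ?_ ((EtCoh.pullPushAdj i).unit.naturality b).symm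
      exact congrArg (fun t => _ ≫ (EtCoh.push i).map t) (congrArg CommaMorphism.left h)
    · simp only [Category.assoc, can, pullback.lift_snd]
      refine ((EtCoh.pullPushAdj j).unit.naturality a).trans ?_
      refine Eq.trans ?_ ((EtCoh.pullPushAdj j).unit.naturality b).symm
      exact congrArg (fun t => _ ≫ (EtCoh.push j).map t) (congrArg CommaMorphism.right h)

include hZU in
theorem full : (EtCore.recollTriple i j).Full where
  map_surjective {F F'} m := by
    haveI := isIso_can i j hZU F'
    let a : (EtCoh.pull i).obj F ⟶ (EtCoh.pull i).obj F' := m.left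
    let b : (EtCoh.pull j).obj F ⟶ (EtCoh.pull j).obj F' := m.right
    have hm : a ≫ (EtCoh.pull i).map ((EtCoh.pullPushAdj j).unit.app F') =
        (EtCoh.pull i).map ((EtCoh.pullPushAdj j).unit.app F) ≫ (EtCoh.pull i).map ((EtCoh.push j).map b) := m.w
    have hc : ((EtCoh.pullPushAdj i).unit.app F ≫ (EtCoh.push i).map a) ≫
        (EtCoh.push i).map ((EtCoh.pull i).map ((EtCoh.pullPushAdj j).unit.app F')) =
        ((EtCoh.pullPushAdj j).unit.app F ≫ (EtCoh.push j).map b) ≫
          (EtCoh.pullPushAdj i).unit.app ((EtCoh.push j).obj ((EtCoh.pull j).obj F')) := by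
      rw [Category.assoc, ← Functor.map_comp, hm, ← Functor.map_comp]
      exact ((EtCoh.pullPushAdj i).unit.naturality
        ((EtCoh.pullPushAdj j).unit.app F ≫ (EtCoh.push j).map b)).symm
    let f : F ⟶ F' := pullback.lift _ _ hc ≫ inv (can i j F')
    have hf : f ≫ can i j F' = pullback.lift _ _ hc := by simp [f]
    refine ⟨f, CommaMorphism.ext ?_ ?_⟩
    · show (EtCoh.pull i).map f = a
      apply ((EtCoh.pullPushAdj i).homEquiv _ _).injective
      rw [Adjunction.homEquiv_unit, Adjunction.homEquiv_unit]
      refine ((EtCoh.pullPushAdj i).unit.naturality f).symm.trans ?_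
      have := congrArg (· ≫ pullback.fst _ _) hf
      simpa [can] using this
    · show (EtCoh.pull j).map f = b
      apply ((EtCoh.pullPushAdj j).homEquiv _ _).injective
      rw [Adjunction.homEquiv_unit, Adjunction.homEquiv_unit]
      refine ((EtCoh.pullPushAdj j).unit.naturality f).symm.trans ?_
      have := congrArg (· ≫ pullback.snd _ _) hf
      simpa [can] using this

include hZU in
theorem essSurj : (EtCore.recollTriple i j).EssSurj where
  mem_essImage c := by
    let φ : c.left ⟶ (EtCoh.pull i).obj ((EtCoh.push j).obj c.right) := c.hom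
    let p := pullback.fst ((EtCoh.push i).map φ) ((EtCoh.pullPushAdj i).unit.app ((EtCoh.push j).obj c.right))
    let q := pullback.snd ((EtCoh.push i).map φ) ((EtCoh.pullPushAdj i).unit.app ((EtCoh.push j).obj c.right))
    haveI : IsIso ((EtCoh.pull i).map p) := isIso_pull_fst i j φ
    haveI : IsIso ((EtCoh.pull j).map q) := isIso_pull_snd i j hZU φ
    haveI := counit_isIso_of_closedImmersion i c.left
    haveI := counit_isIso_of_openImmersion j c.right
    refine ⟨glue i j φ, ⟨Comma.isoMk (asIso ((EtCoh.pull i).map p) ≪≫ asIso ((EtCoh.pullPushAdj i).counit.app c.left))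
      (asIso ((EtCoh.pull j).map q) ≪≫ asIso ((EtCoh.pullPushAdj j).counit.app c.right)) ?_⟩⟩
    show ((EtCoh.pull i).map p ≫ (EtCoh.pullPushAdj i).counit.app c.left) ≫ φ =
      (EtCoh.pull i).map ((EtCoh.pullPushAdj j).unit.app (glue i j φ)) ≫
        (EtCoh.pull i).map ((EtCoh.push j).map ((EtCoh.pull j).map q ≫ (EtCoh.pullPushAdj j).counit.app c.right))
    rw [← Functor.map_comp]
    have hq : (EtCoh.pullPushAdj j).unit.app (glue i j φ) ≫
        (EtCoh.push j).map ((EtCoh.pull j).map q ≫ (EtCoh.pullPushAdj j).counit.app c.right) = q := by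
      rw [Functor.map_comp, ← Category.assoc]
      erw [← (EtCoh.pullPushAdj j).unit.naturality q, Category.assoc, (EtCoh.pullPushAdj j).right_triangle_components]
      exact Category.comp_id q
    rw [hq, Category.assoc]
    erw [← (EtCoh.pullPushAdj i).counit.naturality φ]
    rw [← Category.assoc]
    erw [← Functor.map_comp, pullback.condition, Functor.map_comp]
    rw [Category.assoc]
    erw [(EtCoh.pullPushAdj i).left_triangle_components]
    exact Category.comp_id _

end Groth.Agent.RecollEqLib
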